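import Groth.Agent.AbVar.K522.Ver
import Groth.Agent.Sga7.H729.Dict
import Groth.Agent.Flat2B.SmoothGeom

/-!
# Points of a smooth commutative group killed by the Frobenius are killed by `p`
-/

set_option autoImplicit false
universe u

open CategoryTheory CategoryTheory.Limits AlgebraicGeometry MonObj
open MonoidalCategory CartesianMonoidalCategory

namespace K354.PowFrob

open Groth.Agent.Sga7.H729.Dict

/-- Perfect base field. -/
theorem pow_eq_one_perfect {K : Type u} [Field K] (p : ℕ) [Fact p.Prime] [CharP K p] [PerfectField K]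
    (P : Over (Spec (CommRingCat.of K))) [GrpObj P] [IsCommMonObj P] [IsReduced P.left] [FrobSch.IsCharP P.left p]
    (T : Over (Spec (CommRingCat.of K))) (x : T ⟶ P)
    (hx : x.left ≫ FrobSch.frob P.left p = (1 : T ⟶ P).left ≫ FrobSch.frob P.left p) : x ^ p = 1 := by
  obtain ⟨w, hw⟩ := K522.Ver.exists_fac_pow p P
  have h1 : w ≫ FrobSch.frob P.left p = FrobSch.frob P.left p ≫ w := (FrobSch.frob_comp p w).symm
  have h2 : ∀ y : T ⟶ P, (y ^ p).left = (y.left ≫ FrobSch.frob P.left p) ≫ w := by
    intro y
    have h3 : y ^ p = y ≫ (𝟙 P : P ⟶ P) ^ p := by rw [comp_pow, Category.comp_id]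
    rw [h3, Over.comp_left, ← hw, h1, Category.assoc]
  have h4 : (x ^ p).left = ((1 : T ⟶ P) ^ p).left := by rw [h2, h2, hx]
  rw [one_pow] at h4
  exact Over.OverMorphism.ext h4

theorem pow_eq_one {K : Type u} [Field K] (p : ℕ) [Fact p.Prime] [CharP K p]
    (P : Over (Spec (CommRingCat.of K))) [GrpObj P] [IsCommMonObj P] [Smooth P.hom] [FrobSch.IsCharP P.left p]
    (T : Over (Spec (CommRingCat.of K))) (x : T ⟶ P)
    (hx : x.left ≫ FrobSch.frob P.left p = (1 : T ⟶ P).left ≫ FrobSch.frob P.left p) : x ^ p = 1 := by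
  let L := AlgebraicClosure K
  have hL : CharP L p := charP_of_injective_algebraMap (algebraMap K L).injective p
  let g : Spec (CommRingCat.of L) ⟶ Spec (CommRingCat.of K) := Spec.map (CommRingCat.ofHom (algebraMap K L))
  let PL : Over (Spec (CommRingCat.of L)) := Red.bc g P
  have hPLsm : Smooth PL.hom := inferInstanceAs (Smooth (pullback.snd P.hom g))
  have hPLred : IsReduced PL.left := Groth.Agent.Flat2B.SmoothGeom.isReduced_of_smooth PL.hom
  have hPLchar : FrobSch.IsCharP PL.left p := FrobSch.IsCharP.of_hom PL.hom p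
  let TL : Over (Spec (CommRingCat.of L)) := Red.bc g T
  let π : (Over.map g).obj TL ⟶ T := (Over.mapPullbackAdj g).counit.app T
  let y := (bcPts g P TL).symm (π ≫ x)
  have hy : y ^ p = 1 := by
    apply pow_eq_one_perfect p PL TL y
    have hy0 : y.left ≫ pullback.fst P.hom g = (π ≫ x).left := by
      rw [← bcPts_left, MulEquiv.apply_symm_apply]
    have h10 : (1 : TL ⟶ PL).left ≫ pullback.fst P.hom g = π.left ≫ (1 : T ⟶ P).left := by
      rw [← bcPts_left, map_one, ← Over.comp_left, MonObj.comp_one]
    have hch : FrobSch.IsCharP (pullback P.hom g) p := hPLchar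
    apply pullback.hom_ext
    · rw [Category.assoc, Category.assoc]
      have h2 : FrobSch.frob PL.left p ≫ pullback.fst P.hom g = pullback.fst P.hom g ≫ FrobSch.frob P.left p :=
        FrobSch.frob_comp p (pullback.fst P.hom g : PL.left ⟶ P.left)
      rw [h2, ← Category.assoc, ← Category.assoc, hy0, h10, Over.comp_left, Category.assoc, Category.assoc, hx]
    · rw [Category.assoc, Category.assoc]
      have hspec : FrobSch.IsCharP (Spec (CommRingCat.of L)) p := inferInstance
      have h2 : FrobSch.frob PL.left p ≫ pullback.snd P.hom g = pullback.snd P.hom g ≫ FrobSch.frob _ p :=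
        FrobSch.frob_comp p (pullback.snd P.hom g : PL.left ⟶ Spec (CommRingCat.of L))
      rw [h2, ← Category.assoc, ← Category.assoc]
      have h3 : y.left ≫ pullback.snd P.hom g = TL.hom := Over.w y
      have h4 : (1 : TL ⟶ PL).left ≫ pullback.snd P.hom g = TL.hom := Over.w _
      rw [h3, h4]
  have h1 : (π ≫ x) ^ p = 1 := by
    have h2 := congrArg (bcPts g P TL) hy
    rw [map_pow, map_one] at h2
    simpa [y] using h2
  rw [← comp_pow] at h1
  have hπ : π.left = pullback.fst T.hom g := by
    simp [π]
  have hepi : Epi π.left := by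
    rw [hπ]
    have hff : Flat g ∧ Surjective g := by
      refine (flat_and_surjective_SpecMap_iff _).mpr ?_
      rw [CommRingCat.hom_ofHom, RingHom.faithfullyFlat_algebraMap_iff]
      infer_instance
    obtain ⟨h2, h3⟩ := hff
    exact Flat.epi_of_flat_of_surjective _
  apply Over.OverMorphism.ext
  rw [← cancel_epi π.left, ← Over.comp_left, ← Over.comp_left, h1, MonObj.comp_one]

end K354.PowFrob
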