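import Groth.Agent.Neron.K354.PowFrob
import Groth.Agent.Neron.K491.FrobIsog

/-!
# The kernel of the relative Frobenius of a smooth commutative group is killed by `p`
-/

set_option autoImplicit false
universe u

open CategoryTheory CategoryTheory.Limits AlgebraicGeometry MonObj
open MonoidalCategory CartesianMonoidalCategory

namespace K354.PowRF

open K491

/-- (PT) the relative Frobenius kernel is killed by `p`. -/
theorem pow_eq_one_of_rF (K : Type u) [Field K] (p : ℕ) [Fact p.Prime] [CharP K p]
    [FrobSch.IsCharP (Spec (CommRingCat.of K)) p]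
    (P : Over (Spec (CommRingCat.of K))) [GrpObj P] [IsCommMonObj P] [Smooth P.hom] [QuasiCompact P.hom]
    (T : Over (Spec (CommRingCat.of K))) (x : T ⟶ P) (hx : x ≫ FrobIsog.rF p P = 1) : x ^ p = 1 := by
  haveI : FrobSch.IsCharP P.left p := FrobSch.IsCharP.of_hom P.hom p
  apply K354.PowFrob.pow_eq_one p P T x
  have h1 : (1 : T ⟶ P) ≫ FrobIsog.rF p P = 1 := MonObj.one_comp _
  have h2 : x ≫ FrobIsog.rF p P = (1 : T ⟶ P) ≫ FrobIsog.rF p P := by rw [hx, h1]
  have h3 := congrArg (fun f => f.left ≫ pullback.fst P.hom (FrobSch.frob (Spec (CommRingCat.of K)) p)) h2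
  simp only [Over.comp_left, FrobIsog.rF_left, Category.assoc] at h3
  rw [FrobSch.relFrob_fst] at h3
  exact h3

end K354.PowRF
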